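import Mathlib
import Cfsg.Agent.Base
import Cfsg.Agent.Lib.KHalf.Count
import Cfsg.Agent.Lib.GWCor.Dih
import Cfsg.Agent.Lib.ZStar.WClosed
import Cfsg.Agent.Lib.GL.Simple
import Cfsg.Agent.S0483

/-!
Groups with a strongly closed self-centralizing four-group in a Sylow `2`-subgroup.
-/

set_option autoImplicit false
set_option linter.style.haveILetI false

namespace H91.KH

open Subgroup Cfsg H69 H77 H29
open scoped commutatorElement

variable {G : Type*} [Group G] [Finite G]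

/-- the conclusion -/
def Concl (G : Type*) [Group G] : Prop :=
  Nonempty (G ≃* alternatingGroup (Fin 4)) ∨ Nonempty (G ≃* Equiv.Perm (Fin 4)) ∨
    ∃ S : Subgroup G, S.Normal ∧ IsSimpleGroup S ∧ ¬ IsMulCommutative S ∧ 𝐂(S) = ⊥ ∧
      ∃ (F : Type) (_ : Field F) (_ : Fintype F), 3 < Fintype.card F ∧
        (Fintype.card F % 8 = 3 ∨ Fintype.card F % 8 = 5) ∧
        Nonempty (S ≃* Matrix.ProjectiveSpecialLinearGroup (Fin 2) F)

theorem arith {q n : ℕ} (ho : Odd q) (h : 2 * n = q * (q - 1) * (q + 1)) (h8 : ¬ 8 ∣ n) :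
    q % 8 = 3 ∨ q % 8 = 5 := by
  by_contra hn
  have := Nat.odd_iff.1 ho
  refine h8 (Nat.dvd_of_mul_dvd_mul_left two_pos ?_)
  rw [h, mul_assoc]
  refine Dvd.dvd.mul_left ?_ _
  rcases (show q % 8 = 1 ∨ q % 8 = 7 by omega) with k | k
  · exact Nat.mul_dvd_mul (a := 8) (c := 2) (by omega) (by omega)
  · exact Nat.mul_dvd_mul (by omega) (by omega)

theorem concl_of_d2 (h : D2 G) (hO : pPrimeCore 2 G = ⊥) (h2 : ¬ IsPGroup 2 G)
    (h8 : ∀ L ≤ commutator G, L.Normal → ¬ 8 ∣ Nat.card L) : Concl G := by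
  by_cases hs : Group.IsSolvable G
  · rcases h.solvable hO with h3 | h3 | h3
    exacts [absurd h3 h2, Or.inl h3, Or.inr (Or.inl h3)]
  obtain ⟨L, hL, hp, h3⟩ := exists_perfect_residual G
  have : Nontrivial L := (L.nontrivial_iff_ne_bot).2 fun e => hs (isSolvable_of_quotient_bot h3 e)
  have hOL := core_eq_bot_subgroup hO L
  have h4 := h8 L ((isPerfect_iff.1 hp).ge.trans (commutator_mono le_top le_top)) inferInstance
  obtain ⟨T⟩ := (inferInstance : Nonempty (Sylow 2 L))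
  obtain ⟨a, b, h5, h6⟩ := (h.subgroup L).sylow_of_perfect hOL T
  obtain ⟨s, -, h7⟩ := exists_isPair_of_dihData T.2 h5 h6
  have e0 : L ≃* L ⧸ oddCore L :=
    ((QuotientGroup.quotientMulEquivOfEq hOL).trans QuotientGroup.quotientBot).symm
  rcases Cfsg.Agent.S0483.result T _ h5 (h6.nonempty_mulEquiv (by omega)) with ⟨F, _, _, k1, k2, ⟨e⟩⟩ | ⟨⟨e⟩⟩
  · rw [← Nat.card_eq_fintype_card] at k1
    have hF := H10.isSimpleGroup_PSL_fin (F := F) 2 le_rfl fun _ => by
      rw [Nat.card_eq_fintype_card]; omega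
    have hS : IsSimpleGroup L := (e0.trans e).isSimpleGroup
    have hc : ¬ IsMulCommutative L := fun k =>
      Group.IsPerfect.not_isSolvable L (H2.isSolvable_of_isMulCommutative k)
    refine Or.inr (Or.inr ⟨L, inferInstance, hS, hc, h.centralizer_eq_bot hO (s := s) (t := b)
      ⟨congrArg Subtype.val h7.sq₁, fun k => h7.ne₁ (Subtype.ext k), congrArg Subtype.val h7.sq₂,
        fun k => h7.ne₂ (Subtype.ext k), fun k => h7.ne (Subtype.ext k),
        congrArg Subtype.val h7.comm⟩ s.2 b.2 fun y hy hy' => ?_, F, _, _, k2, ?_, ⟨e0.trans e⟩⟩)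
    · have k3 : (⟨y, hy⟩ : L) ∈ center L := mem_center_iff.2 fun g => Subtype.ext (hy' g g.2)
      rcases hS.eq_bot_or_eq_top_of_normal (center L) inferInstance with k | k
      · rw [k] at k3; exact congrArg Subtype.val (mem_bot.1 k3)
      · exact absurd ⟨⟨fun u v => mem_center_iff.1 (k ▸ mem_top v) u⟩⟩ hc
    · rw [← Nat.card_eq_fintype_card]
      refine arith k1 ?_ h4
      rw [← H10.card_PSL_two, Nat.card_congr (e0.trans e).toEquiv, Nat.gcd_eq_left]
      have := Nat.odd_iff.1 k1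
      omega
  · refine absurd ?_ h4
    rw [Nat.card_congr (e0.trans e).toEquiv, nat_card_alternatingGroup]
    simp [Nat.factorial]

theorem concl_of_four (hO : pPrimeCore 2 G = ⊥) (S : Sylow 2 G) {V : Subgroup G} (hVS : V ≤ S)
    (h4 : Nat.card V = 4) (hc : V ≤ 𝐂(V)) {x : G} (hx : x ∈ 𝐍(V))
    (fpf : ∀ v ∈ V, x * v * x⁻¹ = v → v = 1) (hC : (S : Subgroup G) ⊓ 𝐂(V) ≤ V)
    (hf : ∀ v ∈ V, ∀ g, g * v * g⁻¹ ∈ (S : Subgroup G) → g * v * g⁻¹ ∈ V) : Concl G := by
  have hp := S.isPGroup'.to_le hVS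
  have hne : V ≠ ⊥ := fun e => by rw [e, card_bot] at h4; omega
  have hV : IsKleinFour V := by
    obtain ⟨a, ha, h1⟩ := exists_orderOf_eq_prime hp hne
    have h2 := conj_mem_of_mem_normalizer hx ha
    have h3 := H9.mul_self_of_orderOf_two h1
    have h5 := H9.ne_one_of_orderOf_two h1
    have h6 : IsPair a (x * a * x⁻¹) := ⟨h3, h5, by simp [mul_assoc, ← mul_assoc a a, h3],
      by simpa using h5, fun e => h5 (fpf a ha e.symm), hc h2 a ha⟩
    exact eq_of_le_of_card_ge ((closure_le _).2 (Set.pair_subset ha h2))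
      (h4.trans h6.isKleinFour.card_four.symm).le ▸ h6.isKleinFour
  have hn : (S : Subgroup G) ≤ 𝐍(V) := le_normalizer_of_cj_le fun g hg y hy => by
    obtain ⟨v, hv, rfl⟩ := mem_cj'.1 hy
    exact hf v hv g (mul_mem (mul_mem hg (hVS hv)) (inv_mem hg))
  obtain ⟨⟨z, hz, hz'⟩, z1⟩ := ne_bot_iff_exists_ne_one.1
    (inf_centralizer_ne_bot hp S.isPGroup' hn hne)
  have z1 : z ≠ 1 := fun e => z1 (Subtype.ext e)
  obtain ⟨v, hv, hv'⟩ : ∃ v ∈ V, v ∉ zpowers z := SetLike.not_le_iff_exists.1 fun e => by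
    have := card_le_of_le e
    rw [h4, Nat.card_zpowers, H9.orderOf_eq_two_of_mul_self z1
      (H19.mul_self_of_isKleinFour hV hz)] at this
    omega
  have hzv := isPair_of_mem hV hz hv z1 (fun e => hv' (e ▸ one_mem _))
    fun e => hv' (e ▸ mem_zpowers z)
  have hcl := hzv.closure_eq hV hz hv
  have mV : ∀ y, y ∈ V ↔ y = 1 ∨ y = z ∨ y = v ∨ y = z * v := fun y => hcl ▸ hzv.mem_closure
  have cz : ∀ t ∈ (S : Subgroup G), t * z * t⁻¹ = z := fun t ht => by
    rw [hz' t ht, mul_inv_cancel_right]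
  have key : ∀ t ∈ (S : Subgroup G), t ∉ V → t * v * t⁻¹ = z * v := fun t ht htV => by
    rcases (mV _).1 (conj_mem_of_mem_normalizer (hn ht) hv) with e | e | e | e
    · exact absurd (by simpa using e) hzv.ne₂
    · exact absurd (by simpa using (cz t ht).trans e.symm) hzv.ne
    · refine absurd (hC ⟨ht, ?_⟩) htV
      rw [← hcl, centralizer_closure]
      rintro _ (rfl | rfl)
      exacts [(hz' t ht).symm, (mul_inv_eq_iff_eq_mul.1 e).symm]
    · exact e
  have key' : ∀ t ∈ (S : Subgroup G), t ∉ V → t * (z * v) * t⁻¹ = v := fun t ht htV => by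
    rw [← conj_mul, cz t ht, key t ht htV, ← mul_assoc, hzv.sq₁, one_mul]
  have zv : z * v ≠ v := by simpa using z1
  have idx : ∀ s ∈ (S : Subgroup G), ∀ t ∈ (S : Subgroup G), s ∉ V → t ∉ V → s * t ∈ V :=
    fun s hs t ht h1 h2 => by
      by_contra h3
      refine zv ((key _ (mul_mem hs ht) h3).symm.trans ?_)
      refine Eq.trans ?_ (key' s hs h1)
      rw [← key t ht h2]
      group
  obtain ⟨t, h1, h2, h3⟩ : ∃ t, orderOf t = 2 ∧ t ≠ v ∧ closure {t, v} = (S : Subgroup G) := by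
    by_cases hSV : (S : Subgroup G) ≤ V
    · exact ⟨z, H9.orderOf_eq_two_of_mul_self z1 hzv.sq₁, hzv.ne, hcl.trans (hVS.antisymm hSV)⟩
    obtain ⟨t, ht, htV, h1⟩ : ∃ t ∈ (S : Subgroup G), t ∉ V ∧ t * t = 1 := by
      obtain ⟨t, ht, htV⟩ := SetLike.not_le_iff_exists.1 hSV
      rcases (mV _).1 (idx t ht t ht htV htV) with e | e | e | e
      · exact ⟨t, ht, htV, e⟩
      · refine ⟨t * v, mul_mem ht (hVS hv), mt (V.mul_mem_cancel_right hv).1 htV, ?_⟩
        calc t * v * (t * v) = t * v * t⁻¹ * (t * t * v) := by group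
          _ = 1 := by rw [key t ht htV, e, hzv.rot.sq₂]
      · exact absurd ((key t ht htV).symm.trans (by rw [← e]; group)) zv
      · exact absurd (Eq.trans (by rw [← e]; group) (key' t ht htV)) zv
    have k1 : t ∈ closure ({t, v} : Set G) := subset_closure (by simp)
    have k2 : v ∈ closure ({t, v} : Set G) := subset_closure (by simp)
    have k3 : V ≤ closure {t, v} := by
      refine hcl.ge.trans ((closure_le _).2 (Set.pair_subset ?_ k2))
      exact (mul_mem_cancel_right k2).1 (key t ht htV ▸ mul_mem (mul_mem k1 k2) (inv_mem k1))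
    refine ⟨t, H9.orderOf_eq_two_of_mul_self (fun e => htV (e ▸ one_mem _)) h1,
      fun e => htV (e ▸ hv), le_antisymm ((closure_le _).2 (Set.pair_subset ht (hVS hv)))
        fun s hs => ?_⟩
    by_cases k : s ∈ V
    · exact k3 k
    · exact (mul_mem_cancel_right k1).1 (k3 (idx s hs t ht k htV))
  obtain ⟨e⟩ := Cfsg.Agent.S0206.result t v h1 (H9.orderOf_eq_two_of_mul_self hzv.ne₂ hzv.sq₂) h2
  rw [h3] at e
  refine concl_of_d2 (D2.of_sylow_equiv S e) hO (fun h => ?_) fun L hL _ h8 => ?_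
  · obtain ⟨⟨y, hy, hy'⟩, y1⟩ := ne_bot_iff_exists_ne_one.1
      (inf_centralizer_ne_bot hp (h.to_subgroup _) (zpowers_le.2 hx) hne)
    exact y1 (Subtype.ext (fpf y hy (by rw [hy' x (mem_zpowers x), mul_inv_cancel_right])))
  have h5 : commutator G ⊓ S ≤ V := H4.commutator_inf_sylow_le_of_fusion S fun y hy u hu => by
    by_cases k : y ∈ V
    · exact mul_mem (hf y k u hu) (inv_mem k)
    · refine idx _ hu _ (inv_mem hy) (fun k' => k ?_) (mt inv_mem_iff.1 k)
      simpa [mul_assoc] using hf _ k' u⁻¹ (by rwa [inv_inv, ← mul_assoc, inv_mul_cancel_left, inv_mul_cancel_right])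
  have h6 := ((isSylowIn_top S).inf_normal le_top le_normalizer_of_normal
    (N := L)).card_eq_pow_factorization
  have h7 := card_le_of_le ((le_inf (inf_le_right.trans hL) inf_le_left).trans h5 :
    (S : Subgroup G) ⊓ L ≤ V)
  have := Nat.pow_le_pow_right two_pos
    ((Nat.prime_two.pow_dvd_iff_le_factorization (k := 3) Nat.card_pos.ne').1 h8)
  omega

theorem main (P : Sylow 2 G) (hO : pPrimeCore 2 G = ⊥)
    (hk : 2 * kQ G (fun x => ∃ k, orderOf x = 2 ^ k) = Nat.card (P : Subgroup G)) :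
    Concl (G ⧸ center G) := by
  obtain ⟨Q, E, x, hE, hC, hn, ho, hc⟩ := exists_centric (G := G) fun h => two_mul_classes_ne (by
    obtain ⟨k, hk⟩ := P.isPGroup'.exists_card_eq
    rw [hk]
    exact fun e => by simpa using Nat.prime_three.dvd_of_dvd_pow e)
    (kP_eq_of_hasNormalPComplement P h ▸ hk)
  rw [H4.card_sylow_eq P Q] at hk
  have h1 := abelian hk hE hC hn ho hc
  obtain ⟨h2, h3, h4⟩ := count hk hE hC hn ho hc
  have hZ : IsPGroup 2 (center G) := isPGroup_iff_mem.2 fun z hz => by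
    obtain ⟨k, hk⟩ := H4.exists_pow_coprime_orderOf (isOfFinOrder_of_finite z) 2
    have := H41.normal_zpowers_of_mem_center (pow_mem hz (2 ^ k))
    exact ⟨k, zpowers_eq_bot.1 (eq_bot_of_odd hO _ (by
      rw [Nat.card_zpowers]; exact Nat.coprime_two_right.1 hk))⟩
  have hZQ : center G ≤ Q := hZ.le_sylow_of_normal Q
  have h5 : E ⊓ 𝐂(zpowers x) = center G := by
    refine le_antisymm (fun y hy => mem_center_iff.2 fun g => ?_) (le_inf
      ((le_inf hZQ (center_le_centralizer _)).trans hC) (center_le_centralizer _))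
    have := H34.zstar_sylow Q (h3 hy).1
      (fun g hg => (h3 hy).2 _ hg (isConj_iff.2 ⟨g, rfl⟩)) g
    rw [show oddCore G = ⊥ from hO, mem_bot, mul_inv_eq_one, mul_inv_eq_iff_eq_mul] at this
    exact this.symm
  have hZE : center G ≤ E := h5.ge.trans inf_le_left
  set π := QuotientGroup.mk' (center G)
  have hπ : ∀ y, π y = 1 ↔ y ∈ center G := QuotientGroup.eq_one_iff
  have mm : ∀ A, center G ≤ A → ∀ y, π y ∈ A.map π → y ∈ A := fun A hA y hy =>
    (comap_map_eq_self (f := π) (H := A) (by rwa [QuotientGroup.ker_mk'])).le hy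
  have fpf : ∀ v ∈ E.map π, π x * v * (π x)⁻¹ = v → v = 1 := fun v hv e => by
    have := H2.map_inf_centralizer_of_coprime (zpowers_le.2 hn)
      (Ru.coprime_of_odd (Q.isPGroup'.to_le hE) ho) (Or.inl (H2.isSolvable_zpowers x)) π
    rw [h5, MonoidHom.map_zpowers, centralizer_zpowers] at this
    obtain ⟨y, hy, rfl⟩ := this.ge ⟨hv,
      mem_centralizer_singleton_iff.2 (mul_inv_eq_iff_eq_mul.1 e).symm⟩
    exact (hπ y).2 hy
  refine concl_of_four (H34.pPrimeCore_quotient_eq_bot_of_le_center le_rfl hZ hO)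
    (Q.mapSurjective (QuotientGroup.mk'_surjective _)) (V := E.map π) (map_mono hE) ?_ ?_
    (le_normalizer_map π ⟨x, hn, rfl⟩) fpf ?_ ?_
  · have := H1.card_mul_relIndex_of_le hZE
    rw [h2, h5, mul_comm] at this
    rw [H1.card_map_mk'_eq_relIndex]
    exact Nat.eq_of_mul_eq_mul_right Nat.card_pos this
  · rintro _ ⟨a, ha, rfl⟩ _ ⟨b, hb, rfl⟩
    rw [← map_mul, h1 ha b hb, map_mul]
  · rintro _ ⟨⟨t, ht, rfl⟩, h6⟩
    refine mem_map_of_mem π (hC ⟨ht, fun y hy => ?_⟩)
    by_contra h7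
    have h8 : y ∉ center G := fun k => h7 (mem_center_iff.1 k t).symm
    have h9 : π (t * y * t⁻¹) = π y := by
      rw [map_mul, map_mul, ← h6 _ (mem_map_of_mem π hy), map_inv, mul_inv_cancel_right]
    have h10 : π (x * y * x⁻¹) ≠ π y := fun k =>
      h8 ((hπ y).1 (fpf _ (mem_map_of_mem π hy) (by simpa using k)))
    have h11 : π (x * (t * y * t⁻¹) * x⁻¹) = π (x * y * x⁻¹) := by
      rw [map_mul, map_mul, h9, map_mul, map_mul]
    have h12 : y ≠ t * y * t⁻¹ := fun k => h7 (eq_mul_inv_iff_mul_eq.1 k)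
    have h13 := (h4 y hy (h5 ▸ h8)).2 _ (mul_mem (mul_mem ht (hE hy)) (inv_mem ht))
      (isConj_iff.2 ⟨t, rfl⟩)
    refine absurd (h4 y hy (h5 ▸ h8)).1 (ne_of_gt ((Set.three_lt_ncard_iff (Set.toFinite _)).2
      ⟨y, t * y * t⁻¹, x * y * x⁻¹, x * (t * y * t⁻¹) * x⁻¹, ⟨hE hy, IsConj.refl y⟩,
        ⟨hE h13, isConj_iff.2 ⟨t, rfl⟩⟩,
        ⟨hE (conj_mem_of_mem_normalizer hn hy), isConj_iff.2 ⟨x, rfl⟩⟩,
        ⟨hE (conj_mem_of_mem_normalizer hn h13), isConj_iff.2 ⟨x * t, by group⟩⟩, h12,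
        fun k => h10 (congrArg π k).symm, fun k => h10 (h11.symm.trans (congrArg π k).symm),
        fun k => h10 ((congrArg π k).symm.trans h9),
        fun k => h10 (h11.symm.trans ((congrArg π k).symm.trans h9)), by simpa using h12⟩))
  · rintro _ ⟨y, hy, rfl⟩ g hg
    obtain ⟨g, rfl⟩ := QuotientGroup.mk'_surjective _ g
    rw [← map_inv, ← map_mul, ← map_mul] at hg ⊢
    refine mem_map_of_mem π ?_
    by_cases h8 : y ∈ center G
    · rwa [mem_center_iff.1 h8 g, mul_inv_cancel_right]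
    · exact (h4 y hy (h5 ▸ h8)).2 _ (mm _ hZQ _ hg) (isConj_iff.2 ⟨g, rfl⟩)

omit [Finite G] in
theorem main_eq_defs : True := by
  have := @Concl.eq_1.{0}
  trivial

end H91.KH
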